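import Groth.Agent.Adeq2Lib.Rpush.Local
import Mathlib.Algebra.Homology.HomologySequence
import Mathlib.AlgebraicGeometry.Morphisms.QuasiSeparated

/-!
# Mayer-Vietoris induction
-/

set_option autoImplicit false

universe u

open CategoryTheory Limits AlgebraicGeometry Opposite

namespace Groth.Agent.Adeq2Lib.Rp

open Groth.Agent.AdeqFound Slice CechAffine AffVan CofreeMod

variable {R : CommRingCat.{u}} (P₀ : Prop)

/-- Good, and zero at the base if the hypothesis holds. -/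
def PP (F : Adeq.MVF R) : Prop := Good F ∧ (P₀ → Subsingleton (F.obj (Adeq.pt (Adeq.algOf R R))))

variable {P₀}

theorem good_of_isZero (F : Adeq.MVF R) (hF : IsZero F) : Good F := by
  let M : ModuleCat.{u + 1} R := ModuleCat.of R PUnit.{u + 2}
  have h0 : IsZero (cokernel (𝟙 (U M))) := isZero_cokernel_of_epi _
  exact good_iff.2 ((Adeq.adequate R).prop_of_iso (h0.iso hF) (good_iff.1 (good_cokernel (good_underline M) (good_underline M) _)))

theorem PP.of_isZero (F : Adeq.MVF R) (hF : IsZero F) : PP P₀ F :=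
  ⟨good_of_isZero F hF, fun _ => ⟨fun x y => by
    have h : ∀ z, z = (0 : F.obj (Adeq.pt (Adeq.algOf R R))) := fun z => by
      show ap (𝟙 F) (Adeq.algOf R R) z = 0
      rw [hF.eq_of_src (𝟙 F) 0]; rfl
    rw [h x, h y]⟩⟩

theorem PP.of_iso {F G : Adeq.MVF R} (e : F ≅ G) (h : PP P₀ F) : PP P₀ G :=
  ⟨good_iff.2 ((Adeq.adequate R).prop_of_iso e (good_iff.1 h.1)), fun hp => ⟨fun x y => by
    haveI := h.2 hp
    have hh : ∀ z, ap e.hom (Adeq.algOf R R) (ap e.inv (Adeq.algOf R R) z) = z := fun z => by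
      rw [← ap_comp, e.inv_hom_id]; rfl
    rw [← hh x, ← hh y, Subsingleton.elim (ap e.inv (Adeq.algOf R R) x) (ap e.inv (Adeq.algOf R R) y)]⟩⟩

theorem PP.mid {A B C D E : Adeq.MVF R} (a : A ⟶ B) (b : B ⟶ C) (c : C ⟶ D) (d : D ⟶ E) (hab : a ≫ b = 0) (hbc : b ≫ c = 0)
    (hcd : c ≫ d = 0) (eB : (ShortComplex.mk a b hab).Exact) (eC : (ShortComplex.mk b c hbc).Exact)
    (eD : (ShortComplex.mk c d hcd).Exact)
    (hA : PP P₀ A) (hB : PP P₀ B) (hD : PP P₀ D) (hE : PP P₀ E) : PP P₀ C := by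
  have xB := exact_ap _ eB
  have xC := exact_ap _ eC
  have xD := exact_ap _ eD
  refine ⟨?_, fun hp => ⟨fun x y => sub_eq_zero.1 ?_⟩⟩
  · let ι : cokernel a ⟶ C := cokernel.desc a b hab
    let g : C ⟶ kernel d := kernel.lift d c hcd
    refine good_ext ι g (fun W => (injective_iff_map_eq_zero _).2 fun z hz => ?_) (fun W k => ?_) (fun W x => ?_)
      (good_cokernel hA.1 hB.1 a) (good_kernel hD.1 hE.1 d)
    · obtain ⟨w, rfl⟩ := ap_surj_of_epi (cokernel.π a) W z
      rw [← ap_comp, cokernel.π_desc] at hz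
      exact (ap_cokernel_eq_zero a W w).2 ((xB W w).1 hz)
    · obtain ⟨x, hx⟩ := (xD W (ap (kernel.ι d) W k)).1 (by
        show ap d W (ap (kernel.ι d) W k) = 0
        rw [← ap_comp, kernel.condition]; rfl)
      refine ⟨x, ap_inj_of_mono (kernel.ι d) W ?_⟩
      rw [← ap_comp, kernel.lift_ι]
      exact hx
    · constructor
      · intro hx
        have hc : ap c W x = 0 := by
          have h := congrArg (ap (kernel.ι d) W) hx
          rw [map_zero, ← ap_comp, kernel.lift_ι] at h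
          exact h
        obtain ⟨w, rfl⟩ := (xC W x).1 hc
        exact ⟨ap (cokernel.π a) W w, by rw [← ap_comp, cokernel.π_desc]⟩
      · rintro ⟨z, rfl⟩
        obtain ⟨w, rfl⟩ := ap_surj_of_epi (cokernel.π a) W z
        refine ap_inj_of_mono (kernel.ι d) W ?_
        rw [map_zero, ← ap_comp g, kernel.lift_ι, ← ap_comp (cokernel.π a), cokernel.π_desc]
        exact (xC W _).2 ⟨w, rfl⟩
  · haveI := hB.2 hp
    haveI := hD.2 hp
    obtain ⟨w, hw⟩ := (xC _ (x - y)).1 (Subsingleton.elim _ _)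
    rw [← hw, Subsingleton.elim w 0, map_zero]

theorem PP.mid_zero {C D E : Adeq.MVF R} (c : C ⟶ D) (d : D ⟶ E) [Mono c] (hcd : c ≫ d = 0)
    (eD : (ShortComplex.mk c d hcd).Exact) (hD : PP P₀ D) (hE : PP P₀ E) : PP P₀ C := by
  obtain ⟨Z', hZ⟩ := HasZeroObject.zero (C := Adeq.MVF R)
  exact PP.mid (0 : Z' ⟶ Z') (0 : Z' ⟶ C) c d zero_comp zero_comp hcd (ShortComplex.exact_of_isZero_X₂ _ hZ)
    ((ShortComplex.exact_iff_mono _ rfl).2 inferInstance) eD (PP.of_isZero _ hZ) (PP.of_isZero _ hZ) hD hE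

theorem shortExact_biprod {A : Type u} [CommRing A] {F₀ F₁ F₂ F₃ : Adeq.MVF A} (a : F₀ ⟶ F₁) (b : F₀ ⟶ F₂) (c : F₁ ⟶ F₃)
    (d : F₂ ⟶ F₃) (w : biprod.lift a b ≫ biprod.desc c (-d) = 0)
    (hinj : ∀ B x, ap a B x = 0 → ap b B x = 0 → x = 0)
    (hex : ∀ B x y, ap c B x = ap d B y → ∃ z, ap a B z = x ∧ ap b B z = y)
    (hsurj : ∀ B, Function.Surjective (ap c B)) :
    (ShortComplex.mk (biprod.lift a b) (biprod.desc c (-d)) w).ShortExact := by
  let P : Adeq.MVF A := F₁ ⊞ F₂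
  have hsplit : ∀ B (z : P.obj (Adeq.pt B)),
      z = ap (biprod.inl : F₁ ⟶ P) B (ap (biprod.fst : P ⟶ F₁) B z) + ap (biprod.inr : F₂ ⟶ P) B (ap (biprod.snd : P ⟶ F₂) B z) :=
    fun B z => by
      rw [← ap_comp, ← ap_comp]
      exact (congrArg (fun w : P ⟶ P => ap w B z) (biprod.total (X := F₁) (Y := F₂)).symm : _)
  refine { exact := exact_of_ap _ fun B (z : P.obj (Adeq.pt B)) hz => ?_, mono_f := mono_of_ap _ fun B => ?_, epi_g := ?_ }
  · have h : ap c B (ap (biprod.fst : P ⟶ F₁) B z) + -ap d B (ap (biprod.snd : P ⟶ F₂) B z) = 0 := by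
      have h0 : ap (biprod.desc c (-d) : P ⟶ F₃) B z = 0 := hz
      rw [hsplit B z, map_add, ← ap_comp (biprod.inl : F₁ ⟶ P) (biprod.desc c (-d)), ← ap_comp (biprod.inr : F₂ ⟶ P) (biprod.desc c (-d)),
        biprod.inl_desc, biprod.inr_desc] at h0
      exact h0
    obtain ⟨x, hx₁, hx₂⟩ := hex B _ _ (add_neg_eq_zero.1 h)
    refine ⟨x, ?_⟩
    show ap (biprod.lift a b : F₀ ⟶ P) B x = z
    rw [hsplit B z, hsplit B (ap (biprod.lift a b : F₀ ⟶ P) B x), ← ap_comp (biprod.lift a b : F₀ ⟶ P) biprod.fst,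
      ← ap_comp (biprod.lift a b : F₀ ⟶ P) biprod.snd, biprod.lift_fst, biprod.lift_snd, hx₁, hx₂]
  · refine (injective_iff_map_eq_zero _).2 fun x hx => hinj B x ?_ ?_
    · have h := congrArg (ap (biprod.fst : P ⟶ F₁) B) hx
      rw [map_zero, ← ap_comp, biprod.lift_fst] at h
      exact h
    · have h := congrArg (ap (biprod.snd : P ⟶ F₂) B) hx
      rw [map_zero, ← ap_comp, biprod.lift_snd] at h
      exact h
  · refine PresheafOfModules.epi_of_surjective fun Z => ?_
    intro (y : F₃.obj (Adeq.pt Z.unop.unop))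
    obtain ⟨x, hx⟩ := hsurj Z.unop.unop y
    refine ⟨ap (biprod.inl : F₁ ⟶ P) Z.unop.unop x, ?_⟩
    show ap (biprod.desc c (-d) : P ⟶ F₃) Z.unop.unop _ = y
    rw [← ap_comp, biprod.inl_desc]
    exact hx

section Pair

variable {C D : Type*} [Category* C] [Category* D] [Preadditive C] [Preadditive D] [HasBinaryBiproducts D]
  (F G : C ⥤ D)

/-- The biproduct of two functors. -/
noncomputable def pairG : C ⥤ D where
  obj N := biprod (F.obj N) (G.obj N)
  map φ := biprod.map (F.map φ) (G.map φ)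
  map_id N := by apply biprod.hom_ext <;> simp
  map_comp φ ψ := by apply biprod.hom_ext <;> simp

instance pairG_additive [F.Additive] [G.Additive] : (pairG F G).Additive where
  map_add := by
    intro X Y f g
    show biprod.map (F.map (f + g)) (G.map (f + g)) = biprod.map (F.map f) (G.map f) + biprod.map (F.map g) (G.map g)
    apply biprod.hom_ext <;> simp [Functor.map_add]

/-- Into the pair. -/
noncomputable def pairLift {F G} {E : C ⥤ D} (a : E ⟶ F) (b : E ⟶ G) : E ⟶ pairG F G where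
  app N := biprod.lift (a.app N) (b.app N)
  naturality N N' φ := by apply biprod.hom_ext <;> simp [pairG]

/-- Out of the pair. -/
noncomputable def pairDesc {F G} {E : C ⥤ D} (a : F ⟶ E) (b : G ⟶ E) : pairG F G ⟶ E where
  app N := biprod.desc (a.app N) (b.app N)
  naturality N N' φ := by apply biprod.hom_ext' <;> simp [pairG]

/-- The first inclusion. -/
noncomputable def pairInl : F ⟶ pairG F G where
  app N := biprod.inl
  naturality N N' φ := by simp [pairG]

/-- The second inclusion. -/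
noncomputable def pairInr : G ⟶ pairG F G where
  app N := biprod.inr
  naturality N N' φ := by simp [pairG]

/-- The first projection. -/
noncomputable def pairFst : pairG F G ⟶ F where
  app N := biprod.fst
  naturality N N' φ := by simp [pairG]

/-- The second projection. -/
noncomputable def pairSnd : pairG F G ⟶ G where
  app N := biprod.snd
  naturality N N' φ := by simp [pairG]

end Pair

variable {T : Scheme.{u}} {M : BigSite.Mod Scheme.fppfPrecoverage T} (I : InjectiveResolution M)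
  {X : Scheme.{u}} (p₁ : X ⟶ Spec R) (p₂ : X ⟶ T)

/-- An open as a scheme over the whole. -/
noncomputable abbrev ov (W : X.Opens) : Over X := Over.mk W.ι

/-- An inclusion of opens over the whole. -/
noncomputable abbrev ovMap {W V : X.Opens} (h : W ≤ V) : ov W ⟶ ov V := Over.homMk (X.homOfLE h) (X.homOfLE_ι h)

instance pullMod_additive' {T' : Scheme.{u}} (h : T' ⟶ T) : (BigSite.pullMod Scheme.fppfPrecoverage h).Additive where
  map_add := by intros; rfl

instance (Y : Over X) : (FY (T := T) p₁ p₂ Y).Additive := inferInstance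

theorem tr_comp {Y Y' Y'' : Over X} (j : Y ⟶ Y') (k : Y' ⟶ Y'') :
    tr (T := T) p₁ p₂ k ≫ tr p₁ p₂ j = tr p₁ p₂ (j ≫ k) := by
  ext1; ext1 N
  refine hom_ext fun B x => (evF p₁ p₂ Y N B).injective ?_
  show evF p₁ p₂ Y N B (ap (trApp p₁ p₂ N k ≫ trApp p₁ p₂ N j) B x) = evF p₁ p₂ Y N B (ap (trApp p₁ p₂ N (j ≫ k)) B x)
  rw [ap_comp, ap_trApp, ap_trApp, ap_trApp, rs_comp, jS_comp]

section MV

variable (W V : X.Opens)

/-- Two pieces. -/
noncomputable abbrev pairF : BigSite.Mod Scheme.fppfPrecoverage T ⥤ Adeq.MVF R :=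
  pairG (FY p₁ p₂ (ov W)) (FY p₁ p₂ (ov V))

/-- Restriction to two pieces. -/
noncomputable def mvα : FY (T := T) p₁ p₂ (ov (W ⊔ V)) ⟶ pairF p₁ p₂ W V :=
  pairLift (tr p₁ p₂ (ovMap (le_sup_left : W ≤ W ⊔ V))) (tr p₁ p₂ (ovMap (le_sup_right : V ≤ W ⊔ V)))

/-- The difference on the intersection. -/
noncomputable def mvβ : pairF (T := T) p₁ p₂ W V ⟶ FY p₁ p₂ (ov (W ⊓ V)) :=
  pairDesc (tr p₁ p₂ (ovMap (inf_le_left : W ⊓ V ≤ W))) (-tr p₁ p₂ (ovMap (inf_le_right : W ⊓ V ≤ V)))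

theorem mvα_mvβ (N : BigSite.Mod Scheme.fppfPrecoverage T) : (mvα p₁ p₂ W V).app N ≫ (mvβ p₁ p₂ W V).app N = 0 := by
  show biprod.lift _ _ ≫ biprod.desc _ _ = 0
  rw [biprod.lift_desc, NatTrans.app_neg, Preadditive.comp_neg, ← NatTrans.comp_app, ← NatTrans.comp_app, tr_comp, tr_comp,
    show ovMap (inf_le_left : W ⊓ V ≤ W) ≫ ovMap (le_sup_left : W ≤ W ⊔ V) =
      ovMap (inf_le_right : W ⊓ V ≤ V) ≫ ovMap (le_sup_right : V ≤ W ⊔ V) from
      Over.OverMorphism.ext (by simp [ovMap]), add_neg_cancel]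

theorem shortExact_mv (N : BigSite.Mod Scheme.fppfPrecoverage T) [Injective N] :
    (ShortComplex.mk ((mvα p₁ p₂ W V).app N) ((mvβ p₁ p₂ W V).app N) (mvα_mvβ p₁ p₂ W V N)).ShortExact := by
  let W' : Bool → X.Opens := fun b => cond b W V
  have hWle : ∀ b, W' b ≤ W ⊔ V := fun b => by cases b; exacts [le_sup_right, le_sup_left]
  let Z' : ∀ B, Bool → Over T := fun B b => obS p₁ p₂ (ov (W' b)) B
  let g : ∀ B b, Z' B b ⟶ obS p₁ p₂ (ov (W ⊔ V)) B := fun B b => jS p₁ p₂ (ovMap (hWle b)) B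
  have hoi : ∀ {O O' : X.Opens} (h : O ≤ O') B, IsOpenImmersion (jS p₁ p₂ (ovMap h) B).left := fun h B =>
    isOpenImmersion_jS p₁ p₂ _ (by show IsOpenImmersion (X.homOfLE h); infer_instance) B
  have hmem : ∀ {O O' : X.Opens} (h : O ≤ O') B (y : ((obS p₁ p₂ (ov O') B).left :)),
      y ∈ Set.range (jS p₁ p₂ (ovMap h) B).left ↔ O'.ι (πY p₁ p₂ (ov O') B y) ∈ O := fun {O O'} h B y => by
    rw [mem_range_jS_iff]
    constructor
    · rintro ⟨o, ho⟩
      rw [← ho]
      show (X.homOfLE h ≫ O'.ι) o ∈ O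
      rw [X.homOfLE_ι]
      exact o.2
    · intro hy
      exact ⟨⟨_, hy⟩, O'.ι.isOpenEmbedding.injective (by
        show (X.homOfLE h ≫ O'.ι) _ = _
        rw [X.homOfLE_ι]; rfl)⟩
  have hcov : ∀ B (y : ((obS p₁ p₂ (ov (W ⊔ V)) B).left :)), ∃ b, y ∈ Set.range (g B b).left := fun B y => by
    have hy : (W ⊔ V).ι (πY p₁ p₂ (ov (W ⊔ V)) B y) ∈ W ⊔ V := (πY p₁ p₂ (ov (W ⊔ V)) B y).2
    rcases hy with hy | hy
    · exact ⟨true, (hmem _ B y).2 hy⟩
    · exact ⟨false, (hmem _ B y).2 hy⟩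
  refine shortExact_biprod ((tr p₁ p₂ (ovMap (le_sup_left : W ≤ W ⊔ V))).app N)
    ((tr p₁ p₂ (ovMap (le_sup_right : V ≤ W ⊔ V))).app N) ((tr p₁ p₂ (ovMap (inf_le_left : W ⊓ V ≤ W))).app N)
    ((tr p₁ p₂ (ovMap (inf_le_right : W ⊓ V ≤ V))).app N) (mvα_mvβ p₁ p₂ W V N)
    (fun B x h₁ h₂ => ?_) (fun B x y hxy => ?_) (fun B y => ?_)
  · refine (evF p₁ p₂ (ov (W ⊔ V)) N B).injective (Eq.trans ?_ (map_zero (evF p₁ p₂ (ov (W ⊔ V)) N B)).symm)
    refine eq_zero_of_cover N (Z' B) (g B) (generate_open_mem _ _ (fun b => hoi _ B) (hcov B)) _ fun b => ?_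
    cases b
    · exact (ap_trApp p₁ p₂ N B _ _).symm.trans ((congrArg _ h₂).trans (map_zero _))
    · exact (ap_trApp p₁ p₂ N B _ _).symm.trans ((congrArg _ h₁).trans (map_zero _))
  · let zW := evF p₁ p₂ (ov W) N B x
    let zV := evF p₁ p₂ (ov V) N B y
    have hz' : rs N.val (jS p₁ p₂ (ovMap (inf_le_left : W ⊓ V ≤ W)) B) zW =
        rs N.val (jS p₁ p₂ (ovMap (inf_le_right : W ⊓ V ≤ V)) B) zV :=
      (ap_trApp p₁ p₂ N B _ x).symm.trans ((congrArg (evF p₁ p₂ (ov (W ⊓ V)) N B) hxy).trans (ap_trApp p₁ p₂ N B _ y))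
    let K : Bool × Bool → Over T := fun k => obS p₁ p₂ (ov (W' k.1 ⊓ W' k.2)) B
    obtain ⟨z, hz⟩ := glue_open N (Z' B) (g B) (fun b => hoi _ B) (hcov B) K (fun k => k.1) (fun k => k.2)
      (fun k => jS p₁ p₂ (ovMap inf_le_left) B) (fun k => jS p₁ p₂ (ovMap inf_le_right) B)
      (fun k => by
        have e : (ovMap (inf_le_left : W' k.1 ⊓ W' k.2 ≤ W' k.1) ≫ ovMap (hWle k.1) : ov (W' k.1 ⊓ W' k.2) ⟶ ov (W ⊔ V)) =
            ovMap (inf_le_left.trans (hWle k.1)) := Over.OverMorphism.ext (by simp [ovMap])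
        rw [jS_comp, e]
        exact hoi _ B)
      (fun k => by
        rw [jS_comp, jS_comp]
        exact congrArg (fun w => jS p₁ p₂ w B) (Over.OverMorphism.ext (by simp [ovMap])))
      (fun i j y hi hj => ⟨(i, j), rfl, rfl, by
        rw [jS_comp]
        have e : (ovMap (inf_le_left : W' i ⊓ W' j ≤ W' i) ≫ ovMap (hWle i) : ov (W' i ⊓ W' j) ⟶ ov (W ⊔ V)) =
            ovMap (inf_le_left.trans (hWle i)) := Over.OverMorphism.ext (by simp [ovMap])
        rw [e, hmem]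
        exact ⟨(hmem _ B y).1 hi, (hmem _ B y).1 hj⟩⟩)
      (fun b => match b with
        | true => zW
        | false => zV)
      (fun k => match k with
        | (true, true) => rfl
        | (false, false) => rfl
        | (true, false) => hz'
        | (false, true) => by
          have h := congrArg (rs N.val (jS p₁ p₂ (ovMap (le_of_eq (inf_comm V W) : V ⊓ W ≤ W ⊓ V)) B)) hz'
          rw [rs_comp, rs_comp, jS_comp, jS_comp] at h
          refine Eq.trans ?_ (h.symm.trans ?_)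
          · exact congrArg (fun w => rs N.val (jS p₁ p₂ w B) zV) (Over.OverMorphism.ext (by simp [ovMap]))
          · exact congrArg (fun w => rs N.val (jS p₁ p₂ w B) zW) (Over.OverMorphism.ext (by simp [ovMap])))
    exact ⟨(evF p₁ p₂ (ov (W ⊔ V)) N B).symm z,
      (evF p₁ p₂ (ov W) N B).injective ((ap_trApp p₁ p₂ N B _ _).trans ((congrArg _ (AddEquiv.apply_symm_apply _ _)).trans (hz true))),
      (evF p₁ p₂ (ov V) N B).injective ((ap_trApp p₁ p₂ N B _ _).trans ((congrArg _ (AddEquiv.apply_symm_apply _ _)).trans (hz false)))⟩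
  · haveI : Mono (jS p₁ p₂ (ovMap (inf_le_left : W ⊓ V ≤ W)) B).left := by
      haveI := hoi (inf_le_left : W ⊓ V ≤ W) B
      infer_instance
    haveI : Mono (jS p₁ p₂ (ovMap (inf_le_left : W ⊓ V ≤ W)) B) := (Over.forget T).mono_of_mono_map (by assumption)
    obtain ⟨x, hx⟩ := surjective_rs_of_injective N (jS p₁ p₂ (ovMap (inf_le_left : W ⊓ V ≤ W)) B)
      (evF p₁ p₂ (ov (W ⊓ V)) N B y)
    exact ⟨(evF p₁ p₂ (ov W) N B).symm x, (evF p₁ p₂ (ov (W ⊓ V)) N B).injective
      ((ap_trApp p₁ p₂ N B _ _).trans ((congrArg _ (AddEquiv.apply_symm_apply _ _)).trans hx))⟩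

/-- The complex of two pieces. -/
noncomputable abbrev CP : CochainComplex (Adeq.MVF R) ℕ :=
  ((pairF p₁ p₂ W V).mapHomologicalComplex (ComplexShape.up ℕ)).obj I.cocomplex

theorem PP_pair (i : ℕ) (hW : PP P₀ ((CY I p₁ p₂ (ov W)).homology i)) (hV : PP P₀ ((CY I p₁ p₂ (ov V)).homology i)) :
    PP P₀ ((CP I p₁ p₂ W V).homology i) := by
  let il := pairInl (FY (T := T) p₁ p₂ (ov W)) (FY p₁ p₂ (ov V))
  let ir := pairInr (FY (T := T) p₁ p₂ (ov W)) (FY p₁ p₂ (ov V))
  let pl := pairFst (FY (T := T) p₁ p₂ (ov W)) (FY p₁ p₂ (ov V))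
  let pr' := pairSnd (FY (T := T) p₁ p₂ (ov W)) (FY p₁ p₂ (ov V))
  let mh : ∀ {F G : BigSite.Mod Scheme.fppfPrecoverage T ⥤ Adeq.MVF R} [F.Additive] [G.Additive] (η : F ⟶ G),
      (((F.mapHomologicalComplex (ComplexShape.up ℕ)).obj I.cocomplex).homology i ⟶
        ((G.mapHomologicalComplex (ComplexShape.up ℕ)).obj I.cocomplex).homology i) := fun η =>
    HomologicalComplex.homologyMap ((NatTrans.mapHomologicalComplex η (ComplexShape.up ℕ)).app I.cocomplex) i
  have e1 : mh il ≫ mh pl = 𝟙 _ := by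
    rw [← HomologicalComplex.homologyMap_comp, ← HomologicalComplex.homologyMap_id]
    congr 1; ext n : 1; exact biprod.inl_fst
  have e2 : mh ir ≫ mh pr' = 𝟙 _ := by
    rw [← HomologicalComplex.homologyMap_comp, ← HomologicalComplex.homologyMap_id]
    congr 1; ext n : 1; exact biprod.inr_snd
  have e3 : mh il ≫ mh pr' = 0 := by
    rw [← HomologicalComplex.homologyMap_comp, ← HomologicalComplex.homologyMap_zero]
    congr 1; ext n : 1; exact biprod.inl_snd
  have e4 : mh pl ≫ mh il + mh pr' ≫ mh ir = 𝟙 _ := by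
    rw [← HomologicalComplex.homologyMap_comp, ← HomologicalComplex.homologyMap_comp, ← HomologicalComplex.homologyMap_add,
      ← HomologicalComplex.homologyMap_id]
    congr 1; ext n : 1; exact biprod.total
  have hS := ShortComplex.Splitting.shortExact (S := ShortComplex.mk (mh il) (mh pr') e3)
    ⟨mh pl, mh ir, e1, e2, e4⟩
  refine ⟨good_of_shortExact _ hS hW.1 hV.1, fun hp => ⟨fun x y => sub_eq_zero.1 ?_⟩⟩
  haveI := hW.2 hp
  haveI := hV.2 hp
  have h := congrArg (fun w => ap w (Adeq.algOf R R) (x - y)) e4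
  have h' : ap (mh il) (Adeq.algOf R R) (ap (mh pl) (Adeq.algOf R R) (x - y)) + ap (mh ir) (Adeq.algOf R R) (ap (mh pr') (Adeq.algOf R R) (x - y)) = x - y := h
  rw [Subsingleton.elim (ap (mh pl) (Adeq.algOf R R) (x - y)) 0, Subsingleton.elim (ap (mh pr') (Adeq.algOf R R) (x - y)) 0, map_zero, map_zero,
    add_zero] at h'
  exact h'.symm

theorem PP_mv (hW : ∀ i, PP P₀ ((CY I p₁ p₂ (ov W)).homology i)) (hV : ∀ i, PP P₀ ((CY I p₁ p₂ (ov V)).homology i))
    (hI : ∀ i, PP P₀ ((CY I p₁ p₂ (ov (W ⊓ V))).homology i)) : ∀ i, PP P₀ ((CY I p₁ p₂ (ov (W ⊔ V))).homology i) := by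
  let S : ShortComplex (CochainComplex (Adeq.MVF R) ℕ) := ShortComplex.mk
    ((NatTrans.mapHomologicalComplex (mvα p₁ p₂ W V) (ComplexShape.up ℕ)).app I.cocomplex)
    ((NatTrans.mapHomologicalComplex (mvβ p₁ p₂ W V) (ComplexShape.up ℕ)).app I.cocomplex)
    (by ext n : 1; exact mvα_mvβ p₁ p₂ W V _)
  have hS : S.ShortExact := HomologicalComplex.shortExact_of_degreewise_shortExact S fun n => by
    haveI := I.injective n
    exact shortExact_mv p₁ p₂ W V (I.cocomplex.X n)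
  intro i
  cases i with
  | zero =>
    haveI : Mono (HomologicalComplex.homologyMap S.f 0) := by
      haveI := hS.mono_f
      haveI : Mono (S.f.f 0) := inferInstanceAs (Mono ((HomologicalComplex.eval _ _ 0).map S.f))
      haveI hπ : ∀ K : CochainComplex (Adeq.MVF R) ℕ, IsIso (K.homologyπ 0) := fun K =>
        ShortComplex.isIso_homologyπ (K.sc 0) (K.shape _ _ (by simp))
      rw [show HomologicalComplex.homologyMap S.f 0 = inv (S.X₁.homologyπ 0) ≫
        (HomologicalComplex.cyclesMap S.f 0 ≫ S.X₂.homologyπ 0) by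
        rw [← HomologicalComplex.homologyπ_naturality, IsIso.inv_hom_id_assoc]]
      infer_instance
    exact PP.mid_zero (HomologicalComplex.homologyMap S.f 0) (HomologicalComplex.homologyMap S.g 0)
      (by rw [← HomologicalComplex.homologyMap_comp, S.zero, HomologicalComplex.homologyMap_zero])
      (hS.homology_exact₂ 0) (PP_pair I p₁ p₂ W V 0 (hW 0) (hV 0)) (hI 0)
  | succ n =>
    exact PP.mid (HomologicalComplex.homologyMap S.g n) (hS.δ n (n + 1) rfl)
      (HomologicalComplex.homologyMap S.f (n + 1)) (HomologicalComplex.homologyMap S.g (n + 1))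
      (hS.comp_δ n (n + 1) rfl) (hS.δ_comp n (n + 1) rfl)
      (by rw [← HomologicalComplex.homologyMap_comp, S.zero, HomologicalComplex.homologyMap_zero])
      (hS.homology_exact₃ n (n + 1) rfl) (hS.homology_exact₁ n (n + 1) rfl) (hS.homology_exact₂ (n + 1))
      (PP_pair I p₁ p₂ W V n (hW n) (hV n)) (hI n) (PP_pair I p₁ p₂ W V (n + 1) (hW _) (hV _)) (hI _)

end MV

theorem PP_affine (hM : Adeq.adequateMod Scheme.fppfPrecoverage T M) (hp₂ : P₀ → Adeq.parasitic Scheme.fppfPrecoverage T M ∧ Flat p₂)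
    (W : X.Opens) (hW : IsAffineOpen W) : ∀ i, PP P₀ ((CY I p₁ p₂ (ov W)).homology i)
  | 0 => by
    haveI : IsAffine (ov W).left := hW
    refine PP.of_iso (homologyZeroIso I p₁ p₂ (ov W)).symm ⟨?_, fun hp => ?_⟩
    · haveI : IsAffineHom ((ov W).hom ≫ p₁) := inferInstance
      exact good_of_adequateMod_fppf _ _ (adequateMod_pushMod _ ((ov W).hom ≫ p₁)
        (adequateMod_pullMod ((ov W).hom ≫ p₂) M hM)) R (𝟙 _)
    · obtain ⟨hpar, hflat⟩ := hp₂ hp
      haveI : Flat (obS p₁ p₂ (ov W) (Adeq.algOf R R)).hom := by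
        haveI : IsIso (sp R (Adeq.algOf R R)).hom := by
          rw [sp_hom]
          show IsIso (Spec.map (CommRingCat.ofHom (RingHom.id R)))
          rw [CommRingCat.ofHom_id, Spec.map_id]
          infer_instance
        show Flat (πY p₁ p₂ (ov W) (Adeq.algOf R R) ≫ W.ι ≫ p₂)
        infer_instance
      haveI := hpar (obS p₁ p₂ (ov W) (Adeq.algOf R R)) inferInstance
      exact (evF p₁ p₂ (ov W) M (Adeq.algOf R R)).toEquiv.subsingleton
  | n + 1 => by
    haveI : IsAffine (ov W).left := hW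
    exact PP.of_isZero _ (isZero_homology_succ I p₁ p₂ (ov W) hM n)

theorem PP_basic (hM : Adeq.adequateMod Scheme.fppfPrecoverage T M) (hp₂ : P₀ → Adeq.parasitic Scheme.fppfPrecoverage T M ∧ Flat p₂)
    (V : X.Opens) (hV : IsAffineOpen V) (s : Finset Γ(X, V)) :
    ∀ g : Γ(X, V), ∀ i, PP P₀ ((CY I p₁ p₂ (ov (s.sup fun r => X.basicOpen (g * r)))).homology i) := by
  classical
  induction s using Finset.induction with
  | empty => exact fun g => PP_affine I p₁ p₂ hM hp₂ _ (by rw [Finset.sup_empty]; exact isAffineOpen_bot X)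
  | insert r s hr ih =>
    intro g
    rw [Finset.sup_insert]
    refine PP_mv I p₁ p₂ _ _ (PP_affine I p₁ p₂ hM hp₂ _ (hV.basicOpen _)) (ih g) ?_
    have e : X.basicOpen (g * r) ⊓ (s.sup fun r => X.basicOpen (g * r)) = s.sup fun r' => X.basicOpen ((g * r * g) * r') := by
      rw [Finset.sup_inf_distrib_left]
      refine Finset.sup_congr rfl fun r' _ => ?_
      rw [← Scheme.basicOpen_mul, mul_assoc (g * r)]
    rw [e]
    exact ih _

theorem PP_le_affine (hM : Adeq.adequateMod Scheme.fppfPrecoverage T M) (hp₂ : P₀ → Adeq.parasitic Scheme.fppfPrecoverage T M ∧ Flat p₂)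
    (V : X.Opens) (hV : IsAffineOpen V) (W : X.Opens) (hWV : W ≤ V) (hW : IsCompact (W : Set X)) :
    ∀ i, PP P₀ ((CY I p₁ p₂ (ov W)).homology i) := by
  obtain ⟨t, ht⟩ := hW.elim_finite_subcover (fun r : {r : Γ(X, V) // X.basicOpen r ≤ W} => (X.basicOpen r.1 : Set X))
    (fun r => (X.basicOpen r.1).2) fun x hx => by
      obtain ⟨r, hr, hxr⟩ := hV.exists_basicOpen_le ⟨x, hx⟩ (hWV hx)
      exact Set.mem_iUnion.2 ⟨⟨r, hr⟩, hxr⟩
  classical
  have e : W = (t.image Subtype.val).sup fun r => X.basicOpen (1 * r) := by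
    refine le_antisymm (fun x hx => ?_) (Finset.sup_le fun r hr => ?_)
    · obtain ⟨r, hr, hxr⟩ := Set.mem_iUnion₂.1 (ht hx)
      exact SetLike.le_def.1 (Finset.le_sup (f := fun r => X.basicOpen (1 * r)) (Finset.mem_image_of_mem _ hr)) (by rwa [one_mul])
    · obtain ⟨r', -, rfl⟩ := Finset.mem_image.1 hr
      rw [one_mul]; exact r'.2
  rw [e]
  exact PP_basic I p₁ p₂ hM hp₂ V hV _ 1

theorem PP_top (hM : Adeq.adequateMod Scheme.fppfPrecoverage T M) (hp₂ : P₀ → Adeq.parasitic Scheme.fppfPrecoverage T M ∧ Flat p₂)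
    [CompactSpace X] [QuasiSeparatedSpace X] : ∀ i, PP P₀ ((CY I p₁ p₂ (ov (⊤ : X.Opens))).homology i) := by
  classical
  suffices h : ∀ s : Finset X.affineOpens, ∀ i, PP P₀ ((CY I p₁ p₂ (ov (s.sup fun V => V.1))).homology i) by
    obtain ⟨t, ht⟩ := isCompact_univ.elim_finite_subcover (fun V : X.affineOpens => (V.1 : Set X)) (fun V => V.1.2)
      fun x _ => by
        obtain ⟨W, hW, hxW, -⟩ := exists_isAffineOpen_mem_and_subset (TopologicalSpace.Opens.mem_top x)
        exact Set.mem_iUnion.2 ⟨⟨W, hW⟩, hxW⟩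
    have e : (⊤ : X.Opens) = t.sup fun V => V.1 := le_antisymm (fun x _ => by
      obtain ⟨V, hV, hxV⟩ := Set.mem_iUnion₂.1 (ht (Set.mem_univ x))
      exact SetLike.le_def.1 (Finset.le_sup (f := fun V : X.affineOpens => V.1) hV) hxV) le_top
    rw [e]
    exact h t
  intro s
  induction s using Finset.induction with
  | empty => exact PP_affine I p₁ p₂ hM hp₂ _ (by rw [Finset.sup_empty]; exact isAffineOpen_bot X)
  | insert V s hV ih =>
    rw [Finset.sup_insert]
    refine PP_mv I p₁ p₂ _ _ (PP_affine I p₁ p₂ hM hp₂ _ V.2) ih (PP_le_affine I p₁ p₂ hM hp₂ V.1 V.2 _ inf_le_left ?_)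
    refine QuasiSeparatedSpace.inter_isCompact _ _ V.1.2 V.2.isCompact (TopologicalSpace.Opens.isOpen _) ?_
    clear hV ih
    induction s using Finset.induction with
    | empty => rw [Finset.sup_empty]; exact isCompact_empty
    | insert U s hU ih => rw [Finset.sup_insert]; exact U.2.isCompact.union ih

theorem PP_whole (hM : Adeq.adequateMod Scheme.fppfPrecoverage T M) (hp₂ : P₀ → Adeq.parasitic Scheme.fppfPrecoverage T M ∧ Flat p₂)
    [CompactSpace X] [QuasiSeparatedSpace X] (i : ℕ) : PP P₀ ((CY I p₁ p₂ (Over.mk (𝟙 X))).homology i) := by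
  let e : ov (⊤ : X.Opens) ≅ Over.mk (𝟙 X) := Over.isoMk X.topIso
  let η : FY (T := T) p₁ p₂ (Over.mk (𝟙 X)) ≅ FY p₁ p₂ (ov ⊤) :=
    { hom := tr p₁ p₂ e.hom
      inv := tr p₁ p₂ e.inv
      hom_inv_id := by
        rw [tr_comp, e.inv_hom_id]
        ext1; ext1 N
        refine hom_ext fun B x => (evF p₁ p₂ _ N B).injective ?_
        show evF p₁ p₂ _ N B (ap (trApp p₁ p₂ N (𝟙 _)) B x) = _
        rw [ap_trApp, jS_id, rs_id]; rfl
      inv_hom_id := by
        rw [tr_comp, e.hom_inv_id]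
        ext1; ext1 N
        refine hom_ext fun B x => (evF p₁ p₂ _ N B).injective ?_
        show evF p₁ p₂ _ N B (ap (trApp p₁ p₂ N (𝟙 _)) B x) = _
        rw [ap_trApp, jS_id, rs_id]; rfl }
  exact PP.of_iso ((HomologicalComplex.homologyFunctor _ _ i).mapIso
    ((NatIso.mapHomologicalComplex η (ComplexShape.up ℕ)).app I.cocomplex)).symm (PP_top I p₁ p₂ hM hp₂ i)

end Groth.Agent.Adeq2Lib.Rp
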