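import Groth.Agent.Adeq2Lib.Rpush.Slice
import Groth.Agent.AdeqFound.Ext
import Mathlib.CategoryTheory.Abelian.Injective.Resolution
import Mathlib.Algebra.Homology.ShortComplex.HomologicalComplex
import Mathlib.Algebra.Homology.HomologicalComplexAbelian

/-!
# Sections of an injective resolution over affine objects
-/

set_option autoImplicit false

universe u

open CategoryTheory Limits AlgebraicGeometry Opposite

namespace Groth.Agent.Adeq2Lib.Rp

open Groth.Agent.AdeqFound Slice CechAffine AffVan CofreeMod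

theorem exact_of_ap {A : Type u} [CommRing A] (S : ShortComplex (Adeq.MVF A))
    (h : ∀ B x, ap S.g B x = 0 → ∃ y, ap S.f B y = x) : S.Exact := by
  rw [ShortComplex.exact_iff_epi_kernel_lift]
  refine PresheafOfModules.epi_of_surjective fun Z => ?_
  intro (k : (kernel S.g).obj (Adeq.pt Z.unop.unop))
  obtain ⟨y, hy⟩ := h Z.unop.unop (ap (kernel.ι S.g) Z.unop.unop k) (by rw [← ap_comp, kernel.condition]; rfl)
  refine ⟨y, ap_inj_of_mono (kernel.ι S.g) Z.unop.unop ?_⟩
  refine Eq.trans ?_ hy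
  rw [show ap (kernel.ι S.g) Z.unop.unop (ap (kernel.lift S.g S.f S.zero) Z.unop.unop y) =
    ap (kernel.lift S.g S.f S.zero ≫ kernel.ι S.g) Z.unop.unop y from rfl, kernel.lift_ι]

theorem mono_of_ap {A : Type u} [CommRing A] {F G : Adeq.MVF A} (φ : F ⟶ G) (h : ∀ B, Function.Injective (ap φ B)) :
    Mono φ :=
  ⟨fun g g' hg => hom_ext fun B x => h B (by rw [← ap_comp, ← ap_comp, hg])⟩

variable {T : Scheme.{u}} {M : BigSite.Mod Scheme.fppfPrecoverage T} (I : InjectiveResolution M)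

/-- The cycles of the resolution. -/
noncomputable abbrev Z (n : ℕ) : BigSite.Mod Scheme.fppfPrecoverage T := kernel (I.cocomplex.d n (n + 1))

/-- The map onto the next cycles. -/
noncomputable abbrev q (n : ℕ) : I.cocomplex.X n ⟶ Z I (n + 1) :=
  kernel.lift _ (I.cocomplex.d n (n + 1)) (I.cocomplex.d_comp_d _ _ _)

theorem epi_q (n : ℕ) : Epi (q I n) := by
  have h := (HomologicalComplex.exactAt_iff' I.cocomplex n (n + 1) (n + 1 + 1) (by simp) (by simp)).1
    (I.cocomplex_exactAt_succ n)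
  exact (ShortComplex.exact_iff_epi_kernel_lift _).1 h

theorem adequateMod_Z_zero (hM : Adeq.adequateMod Scheme.fppfPrecoverage T M) :
    Adeq.adequateMod Scheme.fppfPrecoverage T (Z I 0) := by
  refine (Adeq.adequateMod _ T).prop_of_iso ?_ hM
  exact IsLimit.conePointUniqueUpToIso I.exact₀.fIsKernel (limit.isLimit _)

/-- The sequence of cycles as abelian sheaves. -/
noncomputable abbrev seqZ (n : ℕ) : ShortComplex (AbT T) :=
  (ShortComplex.mk (kernel.ι (I.cocomplex.d n (n + 1))) (q I n) (by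
    rw [← cancel_mono (kernel.ι (I.cocomplex.d (n + 1) (n + 1 + 1))), Category.assoc, kernel.lift_ι, kernel.condition,
      zero_comp])).map (BigSite.toAbMod Scheme.fppfPrecoverage T)

theorem shortExact_seqZ (n : ℕ) : (seqZ I n).ShortExact where
  exact := by
    haveI : Mono (ShortComplex.mk (kernel.ι (I.cocomplex.d n (n + 1))) (q I n) (by
      rw [← cancel_mono (kernel.ι (I.cocomplex.d (n + 1) (n + 1 + 1))), Category.assoc, kernel.lift_ι, kernel.condition,
        zero_comp])).f := inferInstanceAs (Mono (kernel.ι _))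
    refine ShortComplex.Exact.map_of_mono_of_preservesKernel ?_ _ inferInstance inferInstance
    refine ShortComplex.exact_of_f_is_kernel _ (KernelFork.IsLimit.ofι _ _ (fun g hg => kernel.lift _ g ?_)
      (fun g hg => kernel.lift_ι _ _ _) fun g hg m hm => ?_)
    · have := congrArg (fun w => w ≫ kernel.ι _) hg
      simpa using this
    · exact (cancel_mono (kernel.ι _)).1 (hm.trans (kernel.lift_ι _ _ _).symm)
  mono_f := inferInstanceAs (Mono ((BigSite.toAbMod Scheme.fppfPrecoverage T).map (kernel.ι _)))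
  epi_g := by
    haveI := epi_q I n
    refine (Sheaf.isLocallySurjective_iff_epi' AddCommGrpCat.{u + 1} _).1 ⟨fun {U} s => ?_⟩
    obtain ⟨σ, hσ, hσs⟩ := locally_surjective_of_epi (q I n) U s
    exact GrothendieckTopology.superset_covering _ (fun W g hg => hσs g hg) hσ

theorem acy_Z (hM : Adeq.adequateMod Scheme.fppfPrecoverage T M) :
    ∀ n, Acy ((BigSite.toAbMod Scheme.fppfPrecoverage T).obj (Z I n))
  | 0 => acy_toAbMod _ (adequateMod_Z_zero I hM)
  | n + 1 => by
    haveI := I.injective n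
    exact acy_cokernel (seqZ I n) (shortExact_seqZ I n) (acy_Z hM n) (acy_injective_mod (I.cocomplex.X n))

theorem exact_affine (hM : Adeq.adequateMod Scheme.fppfPrecoverage T M) (U : Over T) [IsAffine U.left] (n : ℕ)
    (x : (I.cocomplex.X (n + 1)).val.obj (op U)) (hx : (I.cocomplex.d (n + 1) (n + 1 + 1)).val.app (op U) x = 0) :
    ∃ y, (I.cocomplex.d n (n + 1)).val.app (op U) y = x := by
  obtain ⟨z, rfl⟩ := ((sec_exact (ShortComplex.mk _ _ (kernel.condition (I.cocomplex.d (n + 1) (n + 1 + 1))))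
    (ShortComplex.exact_kernel _) U).2 x).1 hx
  let e : Over.mk (U.left.isoSpec.inv ≫ U.hom) ≅ U := Over.isoMk U.left.isoSpec.symm rfl
  obtain ⟨w, hw⟩ := surjective_sections (U.left.isoSpec.inv ≫ U.hom) (seqZ I n) (shortExact_seqZ I n) (acy_Z I hM n)
    (rs (Z I (n + 1)).val e.hom z)
  have hw' : (q I n).val.app (op (Over.mk (U.left.isoSpec.inv ≫ U.hom))) w = rs (Z I (n + 1)).val e.hom z := hw
  refine ⟨rs (I.cocomplex.X n).val e.inv w, ?_⟩
  have h2 : (q I n).val.app (op U) (rs (I.cocomplex.X n).val e.inv w) = z := by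
    rw [rs_nat, hw', rs_comp, e.inv_hom_id, rs_id]
  rw [← h2]
  exact congrArg (fun φ : I.cocomplex.X n ⟶ I.cocomplex.X (n + 1) => φ.val.app (op U) (rs (I.cocomplex.X n).val e.inv w))
    (kernel.lift_ι (I.cocomplex.d (n + 1) (n + 1 + 1)) (I.cocomplex.d n (n + 1)) (I.cocomplex.d_comp_d _ _ _)).symm

variable {X : Scheme.{u}} {R : CommRingCat.{u}} (p₁ : X ⟶ Spec R) (p₂ : X ⟶ T) (Y : Over X)

/-- The complex of sections over the base changes. -/
noncomputable abbrev CY : CochainComplex (Adeq.MVF R) ℕ :=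
  ((FY p₁ p₂ Y).mapHomologicalComplex (ComplexShape.up ℕ)).obj I.cocomplex

theorem isAffine_obS [IsAffine Y.left] (B : Adeq.Alg R) : IsAffine (obS p₁ p₂ Y B).left :=
  haveI : IsAffine (sp R B).left := inferInstanceAs (IsAffine (Spec _))
  inferInstanceAs (IsAffine (pullback (sp R B).hom (Y.hom ≫ p₁)))

theorem isZero_homology_succ (hM : Adeq.adequateMod Scheme.fppfPrecoverage T M) [IsAffine Y.left] (n : ℕ) :
    IsZero ((CY I p₁ p₂ Y).homology (n + 1)) := by
  refine (HomologicalComplex.exactAt_iff_isZero_homology _ _).1 ?_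
  rw [HomologicalComplex.exactAt_iff' _ n (n + 1) (n + 1 + 1) (by simp) (by simp)]
  refine exact_of_ap _ fun B x hx => ?_
  haveI := isAffine_obS p₁ p₂ Y B
  obtain ⟨y, hy⟩ := exact_affine I hM (obS p₁ p₂ Y B) n (evF p₁ p₂ Y _ B x)
    ((evF_map p₁ p₂ Y B (I.cocomplex.d (n + 1) (n + 1 + 1)) x).symm.trans ((congrArg _ hx).trans (map_zero _)))
  refine ⟨(evF p₁ p₂ Y _ B).symm y, (evF p₁ p₂ Y _ B).injective ?_⟩
  exact (evF_map p₁ p₂ Y B (I.cocomplex.d n (n + 1)) _).trans ((congrArg _ (AddEquiv.apply_symm_apply _ _)).trans hy)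

/-- The homology in degree zero. -/
noncomputable def homologyZeroIso : (CY I p₁ p₂ Y).homology 0 ≅ (FY p₁ p₂ Y).obj M := by
  let S : ShortComplex (Adeq.MVF R) :=
    (ShortComplex.mk _ _ (I.ι_f_zero_comp_complex_d)).map (FY p₁ p₂ Y)
  have hsec : ∀ B, Function.Injective (ap S.f B) ∧ ∀ x, ap S.g B x = 0 → ∃ y, ap S.f B y = x := fun B => by
    obtain ⟨h₁, h₂⟩ := sec_exact (ShortComplex.mk _ _ (I.ι_f_zero_comp_complex_d)) I.exact₀ (obS p₁ p₂ Y B)
    exact ⟨h₁, fun x hx => (h₂ x).1 hx⟩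
  haveI : Mono S.f := mono_of_ap _ fun B => (hsec B).1
  have hex : S.Exact := exact_of_ap S fun B x hx => (hsec B).2 x hx
  exact (CY I p₁ p₂ Y).homologyIsoSc' 0 0 1 (by simp) (by simp) ≪≫
    (ShortComplex.LeftHomologyData.ofIsLimitKernelFork ((CY I p₁ p₂ Y).sc' 0 0 1)
      ((CY I p₁ p₂ Y).shape _ _ (by simp)) (KernelFork.ofι S.f S.zero) hex.fIsKernel).homologyIso

end Groth.Agent.Adeq2Lib.Rp
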