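import Groth.Agent.Adeq2Lib.Rpush.Induct
import Groth.Agent.Adeq2Lib.Pull
import Mathlib.CategoryTheory.Abelian.RightDerived
import Mathlib.CategoryTheory.Abelian.Exact

/-!
# Higher direct images of adequate modules
-/

set_option autoImplicit false

universe u

open CategoryTheory Limits AlgebraicGeometry Opposite

namespace Groth.Agent.Adeq2Lib.Rp

open Groth.Agent.AdeqFound Slice CechAffine AffVan CofreeMod

variable {S T : Scheme.{u}}

/-- The presheaf underlying a module, as used by sheafification. -/
noncomputable abbrev toP (S : Scheme.{u}) : BigSite.Mod Scheme.fppfPrecoverage S ⥤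
    PresheafOfModules.{u + 1} (BigSite.ORing Scheme.fppfPrecoverage S).obj :=
  SheafOfModules.forget _ ⋙ PresheafOfModules.restrictScalars (𝟙 (BigSite.ORing Scheme.fppfPrecoverage S).obj)

instance aMod_additive (S : Scheme.{u}) : (aMod S).Additive :=
  (PresheafOfModules.sheafificationAdjunction (𝟙 (BigSite.ORing Scheme.fppfPrecoverage S).obj)).left_adjoint_additive

instance aMod_preservesFiniteColimits (S : Scheme.{u}) : PreservesFiniteColimits (aMod S) := by
  haveI := (PresheafOfModules.sheafificationAdjunction (𝟙 (BigSite.ORing Scheme.fppfPrecoverage S).obj)).leftAdjoint_preservesColimits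
  exact ⟨fun J _ _ => inferInstance⟩

instance toMVFPre_preservesHomology {R : CommRingCat.{u}} (a : Spec R ⟶ S) :
    (Adeq.toMVFPre Scheme.fppfPrecoverage a).PreservesHomology := by
  refine Functor.preservesHomology_of_map_exact _ fun C hC => exact_of_ap _ fun B x hx => ?_
  let E := PresheafOfModules.evaluation.{u + 1} (BigSite.ORing Scheme.fppfPrecoverage S).obj (op ((Adeq.specOver a).obj (op B)))
  haveI : E.Additive := ⟨fun {_ _ _ _} => rfl⟩
  haveI : PreservesFiniteLimits E := ⟨fun _ _ _ => ⟨fun {F} => PresheafOfModules.evaluation_preservesLimit F _⟩⟩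
  haveI : PreservesFiniteColimits E := ⟨fun _ _ _ => ⟨fun {F} => PresheafOfModules.evaluation_preservesColimit F _⟩⟩
  exact ((ShortComplex.ShortExact.moduleCat_exact_iff_function_exact _).1 (hC.map E) x).1 hx

variable (f : T ⟶ S) {M : BigSite.Mod Scheme.fppfPrecoverage T} (I : InjectiveResolution M)

/-- The presheaf complex of the higher direct images. -/
noncomputable abbrev KP : CochainComplex (PresheafOfModules.{u + 1} (BigSite.ORing Scheme.fppfPrecoverage S).obj) ℕ :=
  ((toP S).mapHomologicalComplex (ComplexShape.up ℕ)).obj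
    (((BigSite.pushMod Scheme.fppfPrecoverage f).mapHomologicalComplex (ComplexShape.up ℕ)).obj I.cocomplex)

/-- Higher direct images are sheafified homology. -/
noncomputable def rpushIso [HasInjectiveResolutions (BigSite.Mod Scheme.fppfPrecoverage T)] (i : ℕ) :
    (BigSite.RpushMod Scheme.fppfPrecoverage f i).obj M ≅ (aMod S).obj ((KP f I).homology i) :=
  let adj := PresheafOfModules.sheafificationAdjunction (𝟙 (BigSite.ORing Scheme.fppfPrecoverage S).obj)
  let K := ((BigSite.pushMod Scheme.fppfPrecoverage f).mapHomologicalComplex (ComplexShape.up ℕ)).obj I.cocomplex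
  I.isoRightDerivedObj (BigSite.pushMod Scheme.fppfPrecoverage f) i ≪≫
    (HomologicalComplex.homologyFunctor _ _ i).mapIso
      (show K ≅ ((aMod S).mapHomologicalComplex (ComplexShape.up ℕ)).obj (KP f I) from
        HomologicalComplex.Hom.isoOfComponents (fun n => ((asIso adj.counit).app (K.X n)).symm)
          (fun n m _ => ((asIso adj.counit).inv.naturality (K.d n m)).symm)) ≪≫
    ((KP f I).sc i).mapHomologyIso (aMod S)

variable {R : CommRingCat.{u}} (a : Spec R ⟶ S)

/-- The homology at an affine object. -/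
noncomputable def toMVFHomologyIso (i : ℕ) :
    (Adeq.toMVFPre Scheme.fppfPrecoverage a).obj ((KP f I).homology i) ≅
      (CY I (pullback.fst a f) (pullback.snd a f) (Over.mk (𝟙 (pullback a f)))).homology i :=
  (((KP f I).sc i).mapHomologyIso (Adeq.toMVFPre Scheme.fppfPrecoverage a)).symm ≪≫
    (HomologicalComplex.homologyFunctor _ _ i).mapIso
      (show ((Adeq.toMVFPre Scheme.fppfPrecoverage a).mapHomologicalComplex (ComplexShape.up ℕ)).obj (KP f I) ≅
          ((FY (pullback.fst a f) (pullback.snd a f) (Over.mk (𝟙 (pullback a f)))).mapHomologicalComplex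
            (ComplexShape.up ℕ)).obj I.cocomplex from
        HomologicalComplex.Hom.isoOfComponents (fun n => ((topNat f a).app (I.cocomplex.X n)).symm)
          (fun n m _ => ((topNat f a).inv.naturality (I.cocomplex.d n m)).symm))

theorem good_KP [QuasiCompact f] [QuasiSeparated f] (hM : Adeq.adequateMod Scheme.fppfPrecoverage T M) (i : ℕ) :
    PP (Adeq.parasitic Scheme.fppfPrecoverage T M ∧ Flat a)
      ((Adeq.toMVFPre Scheme.fppfPrecoverage a).obj ((KP f I).homology i)) := by
  haveI : CompactSpace (pullback a f :) := QuasiCompact.compactSpace_of_compactSpace (pullback.fst a f)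
  haveI : QuasiSeparatedSpace (pullback a f :) := quasiSeparatedSpace_of_quasiSeparated (pullback.fst a f)
  refine PP.of_iso (toMVFHomologyIso f I a i).symm (PP_whole I (pullback.fst a f) (pullback.snd a f) hM (fun h => ⟨h.1, ?_⟩) i)
  haveI := h.2
  infer_instance

variable [HasInjectiveResolutions (BigSite.Mod Scheme.fppfPrecoverage T)]

theorem adequateMod_RpushMod [QuasiCompact f] [QuasiSeparated f] (M : BigSite.Mod Scheme.fppfPrecoverage T)
    (hM : Adeq.adequateMod Scheme.fppfPrecoverage T M) (i : ℕ) :
    Adeq.adequateMod Scheme.fppfPrecoverage S ((BigSite.RpushMod Scheme.fppfPrecoverage f i).obj M) := by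
  let I' : InjectiveResolution M := Classical.choice (HasInjectiveResolution.out (Z := M))
  refine (Adeq.adequateMod _ S).prop_of_iso (rpushIso f I' i).symm (adequateMod_of_good _ ?_)
  exact good_sheafification _ fun R a => (good_KP f I' a hM i).1

theorem parasitic_RpushMod [QuasiCompact f] [QuasiSeparated f] (M : BigSite.Mod Scheme.fppfPrecoverage T)
    (hM : Adeq.adequateMod Scheme.fppfPrecoverage T M) (hP : Adeq.parasitic Scheme.fppfPrecoverage T M) (i : ℕ) :
    Adeq.parasitic Scheme.fppfPrecoverage S ((BigSite.RpushMod Scheme.fppfPrecoverage f i).obj M) := by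
  have htfae := (parasitic_tfae S _ (adequateMod_RpushMod f M hM i)).out 0 3 rfl rfl
  refine htfae.2
    ⟨S.affineOpens, fun U => U.1, fun U => U.2, (AlgebraicGeometry.iSup_affineOpens_eq_top S), fun U => ?_⟩
  let I' : InjectiveResolution M := Classical.choice (HasInjectiveResolution.out (Z := M))
  let a : Spec Γ(S, U.1) ⟶ S := U.2.fromSpec
  haveI : IsOpenImmersion a := IsAffineOpen.isOpenImmersion_fromSpec U.2
  let Q := (KP f I').homology i
  let η : Q ⟶ ((aMod S).obj Q).val :=
    (PresheafOfModules.sheafificationAdjunction (𝟙 (BigSite.ORing Scheme.fppfPrecoverage S).obj)).unit.app Q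
  haveI : Presheaf.IsLocallyInjective (QuotSh.J Scheme.fppfPrecoverage S) ((PresheafOfModules.toPresheaf _).map η) :=
    inferInstanceAs (Presheaf.IsLocallyInjective (QuotSh.J Scheme.fppfPrecoverage S)
      (CategoryTheory.toSheafify (QuotSh.J Scheme.fppfPrecoverage S) Q.presheaf))
  haveI : Presheaf.IsLocallySurjective (QuotSh.J Scheme.fppfPrecoverage S) ((PresheafOfModules.toPresheaf _).map η) :=
    inferInstanceAs (Presheaf.IsLocallySurjective (QuotSh.J Scheme.fppfPrecoverage S)
      (CategoryTheory.toSheafify (QuotSh.J Scheme.fppfPrecoverage S) Q.presheaf))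
  haveI := isIso_toMVFPre_map Q (fun R a => (good_KP f I' a hM i).1) _ η Γ(S, U.1) a
  haveI h0 := (PP.of_iso (asIso ((Adeq.toMVFPre Scheme.fppfPrecoverage a).map η)) (good_KP f I' a hM i)).2
    ⟨hP, inferInstance⟩
  let o : (BigSite.zarIncl S).obj U.1 ≅ (Adeq.specOver a).obj (op (Adeq.algOf Γ(S, U.1) Γ(S, U.1))) :=
    (Over.isoMk (f := (BigSite.zarIncl S).obj U.1) (g := Over.mk a) U.2.isoSpec (IsAffineOpen.isoSpec_hom_fromSpec U.2)) ≪≫ (baseIso a).symm
  let φ := (rpushIso f I' i).hom
  refine ⟨fun x y => ?_⟩
  have h1 : rs _ o.inv (φ.val.app _ x) = rs _ o.inv (φ.val.app _ y) :=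
    @Subsingleton.elim _ ((evS ((aMod S).obj Q).val a _).symm.toEquiv.subsingleton) _ _
  have h2 : φ.val.app _ x = φ.val.app _ y := (rsEquiv _ o.symm).injective h1
  have h3 := congrArg ((rpushIso f I' i).inv.val.app _) h2
  have h4 : ∀ z, (rpushIso f I' i).inv.val.app (op ((BigSite.zarIncl S).obj U.1)) (φ.val.app _ z) = z := fun z =>
    congrArg (fun w : (BigSite.RpushMod Scheme.fppfPrecoverage f i).obj M ⟶ _ => w.val.app (op ((BigSite.zarIncl S).obj U.1)) z)
      (rpushIso f I' i).hom_inv_id
  exact (h4 x).symm.trans (h3.trans (h4 y))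

end Groth.Agent.Adeq2Lib.Rp
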