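import Groth.Agent.Adeq2Lib.PushMain
import Groth.Agent.Adeq2Lib.CofreeMod

/-!
# Sections over base changes of a scheme over an affine scheme and a second scheme
-/

set_option autoImplicit false

universe u

open CategoryTheory Limits AlgebraicGeometry Opposite TensorProduct

namespace Groth.Agent.Adeq2Lib.Slice

open Groth.Agent.AdeqFound CechAffine

variable {T X : Scheme.{u}} {R : CommRingCat.{u}} (p₁ : X ⟶ Spec R) (p₂ : X ⟶ T)

/-- The object of an algebra. -/
noncomputable abbrev obS (Y : Over X) (B : Adeq.Alg R) : Over T :=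
  (Over.map (Y.hom ≫ p₂)).obj ((Over.pullback (Y.hom ≫ p₁)).obj (sp R B))

/-- The projection to the spectrum of the algebra. -/
noncomputable abbrev πB (Y : Over X) (B : Adeq.Alg R) : (obS p₁ p₂ Y B).left ⟶ (sp R B).left :=
  pullback.fst (sp R B).hom (Y.hom ≫ p₁)

/-- The projection to the scheme. -/
noncomputable abbrev πY (Y : Over X) (B : Adeq.Alg R) : (obS p₁ p₂ Y B).left ⟶ Y.left :=
  pullback.snd (sp R B).hom (Y.hom ≫ p₁)

/-- The map of objects. -/
noncomputable def jS {Y Y' : Over X} (j : Y ⟶ Y') (B : Adeq.Alg R) : obS p₁ p₂ Y B ⟶ obS p₁ p₂ Y' B :=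
  Over.homMk (pullback.lift (πB p₁ p₂ Y B) (πY p₁ p₂ Y B ≫ j.left) (by
      rw [Category.assoc, Over.w_assoc j]; exact pullback.condition)) (by
    show pullback.lift _ _ _ ≫ pullback.snd (sp R B).hom (Y'.hom ≫ p₁) ≫ Y'.hom ≫ p₂ = πY p₁ p₂ Y B ≫ Y.hom ≫ p₂
    rw [pullback.lift_snd_assoc, Category.assoc, Over.w_assoc j])

theorem jS_fst {Y Y' : Over X} (j : Y ⟶ Y') (B : Adeq.Alg R) : (jS p₁ p₂ j B).left ≫ πB p₁ p₂ Y' B = πB p₁ p₂ Y B :=
  pullback.lift_fst _ _ _

theorem jS_snd {Y Y' : Over X} (j : Y ⟶ Y') (B : Adeq.Alg R) :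
    (jS p₁ p₂ j B).left ≫ πY p₁ p₂ Y' B = πY p₁ p₂ Y B ≫ j.left := pullback.lift_snd _ _ _

theorem jS_ext {W : Over T} {Y : Over X} {B : Adeq.Alg R} (g g' : W ⟶ obS p₁ p₂ Y B)
    (h₁ : g.left ≫ πB p₁ p₂ Y B = g'.left ≫ πB p₁ p₂ Y B) (h₂ : g.left ≫ πY p₁ p₂ Y B = g'.left ≫ πY p₁ p₂ Y B) : g = g' :=
  Over.OverMorphism.ext (pullback.hom_ext h₁ h₂)

theorem jS_comp {Y Y' Y'' : Over X} (j : Y ⟶ Y') (k : Y' ⟶ Y'') (B : Adeq.Alg R) :
    jS p₁ p₂ j B ≫ jS p₁ p₂ k B = jS p₁ p₂ (j ≫ k) B := by
  refine jS_ext p₁ p₂ _ _ ?_ ?_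
  · rw [Over.comp_left, Category.assoc, jS_fst, jS_fst, jS_fst]
  · rw [Over.comp_left, Category.assoc, jS_snd, ← Category.assoc, jS_snd, Category.assoc, jS_snd, Over.comp_left]

theorem jS_id (Y : Over X) (B : Adeq.Alg R) : jS p₁ p₂ (𝟙 Y) B = 𝟙 _ := by
  refine jS_ext p₁ p₂ _ _ ?_ ?_
  · rw [jS_fst]; exact (Category.id_comp _).symm
  · rw [jS_snd, Over.id_left, Category.comp_id]; exact (Category.id_comp _).symm

theorem isPullback_jS {Y Y' : Over X} (j : Y ⟶ Y') (B : Adeq.Alg R) :
    IsPullback (jS p₁ p₂ j B).left (πY p₁ p₂ Y B) (πY p₁ p₂ Y' B) j.left := by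
  refine IsPullback.of_right (h₁₂ := πB p₁ p₂ Y' B) (h₂₂ := Y'.hom ≫ p₁) ?_ (jS_snd p₁ p₂ j B)
    (IsPullback.of_hasPullback (sp R B).hom (Y'.hom ≫ p₁)).flip.flip
  rw [jS_fst, Over.w_assoc j]
  exact IsPullback.of_hasPullback (sp R B).hom (Y.hom ≫ p₁)

theorem isOpenImmersion_jS {Y Y' : Over X} (j : Y ⟶ Y') (hj : IsOpenImmersion j.left) (B : Adeq.Alg R) :
    IsOpenImmersion (jS p₁ p₂ j B).left :=
  MorphismProperty.of_isPullback (P := @IsOpenImmersion) (isPullback_jS p₁ p₂ j B).flip hj

theorem mem_range_jS_iff {Y Y' : Over X} (j : Y ⟶ Y') (B : Adeq.Alg R) (y : ((obS p₁ p₂ Y' B).left :)) :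
    y ∈ Set.range (jS p₁ p₂ j B).left ↔ πY p₁ p₂ Y' B y ∈ Set.range j.left := by
  constructor
  · rintro ⟨o, rfl⟩
    exact ⟨πY p₁ p₂ Y B o, congrArg (fun w : (obS p₁ p₂ Y B).left ⟶ Y'.left => w o) (isPullback_jS p₁ p₂ j B).w.symm⟩
  · rintro ⟨x, hx⟩
    obtain ⟨o, ho, -⟩ := Scheme.exists_preimage_of_isPullback (isPullback_jS p₁ p₂ j B) y x hx.symm
    exact ⟨o, ho⟩

variable [BigSite.OSh Scheme.fppfPrecoverage.{u}]

/-- The functor of a scheme over the base. -/
noncomputable abbrev FY (Y : Over X) : BigSite.Mod Scheme.fppfPrecoverage T ⥤ Adeq.MVF R :=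
  BigSite.pullMod Scheme.fppfPrecoverage (Y.hom ≫ p₂) ⋙ BigSite.pushMod Scheme.fppfPrecoverage (Y.hom ≫ p₁) ⋙
    Adeq.toMVF Scheme.fppfPrecoverage (𝟙 (Spec R))

variable (Y : Over X) (N : BigSite.Mod Scheme.fppfPrecoverage T) (B : Adeq.Alg R)

/-- The values. -/
noncomputable def evF : ((FY p₁ p₂ Y).obj N).obj (Adeq.pt B) ≃+ N.val.obj (op (obS p₁ p₂ Y B)) :=
  { toFun := fun x => x, invFun := fun x => x, left_inv := fun _ => rfl, right_inv := fun _ => rfl,
    map_add' := fun _ _ => rfl }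

theorem evF_smul (c : (B : Type u)) (x : ((FY p₁ p₂ Y).obj N).obj (Adeq.pt B)) :
    evF p₁ p₂ Y N B (c • x) = sc (U := obS p₁ p₂ Y B) (πB p₁ p₂ Y B) c • evF p₁ p₂ Y N B x := rfl

theorem evF_mp {C : Adeq.Alg R} (g : B ⟶ C) (x : ((FY p₁ p₂ Y).obj N).obj (Adeq.pt B)) :
    evF p₁ p₂ Y N C (mp _ g x) =
      rs N.val ((Over.map (Y.hom ≫ p₂)).map ((Over.pullback (Y.hom ≫ p₁)).map (spMap R g))) (evF p₁ p₂ Y N B x) := rfl

theorem evF_map {N N' : BigSite.Mod Scheme.fppfPrecoverage T} (φ : N ⟶ N') (x : ((FY p₁ p₂ Y).obj N).obj (Adeq.pt B)) :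
    evF p₁ p₂ Y N' B (ap ((FY p₁ p₂ Y).map φ) B x) = φ.val.app (op (obS p₁ p₂ Y B)) (evF p₁ p₂ Y N B x) := rfl

variable {Y}

theorem jS_nat {Y' : Over X} (j : Y ⟶ Y') {B C : Adeq.Alg R} (g : B ⟶ C) :
    jS p₁ p₂ j C ≫ (Over.map (Y'.hom ≫ p₂)).map ((Over.pullback (Y'.hom ≫ p₁)).map (spMap R g)) =
      (Over.map (Y.hom ≫ p₂)).map ((Over.pullback (Y.hom ≫ p₁)).map (spMap R g)) ≫ jS p₁ p₂ j B := by
  refine jS_ext p₁ p₂ _ _ ?_ ?_
  · rw [Over.comp_left, Over.comp_left, Category.assoc, Category.assoc, jS_fst]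
    refine (congrArg (fun w => (jS p₁ p₂ j C).left ≫ w) (pullback.lift_fst _ _ _)).trans ?_
    refine Eq.trans ?_ (pullback.lift_fst _ _ _).symm
    exact (Category.assoc _ _ _).symm.trans (congrArg (fun w => w ≫ (spMap R g).left) (jS_fst p₁ p₂ j C))
  · rw [Over.comp_left, Over.comp_left, Category.assoc, Category.assoc, jS_snd]
    refine (congrArg (fun w => (jS p₁ p₂ j C).left ≫ w) (pullback.lift_snd _ _ _)).trans ?_
    refine (jS_snd p₁ p₂ j C).trans ?_
    exact (Category.assoc _ _ _).symm.trans (congrArg (fun w => w ≫ j.left) (pullback.lift_snd _ _ _)) |>.symm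

/-- Restriction. -/
noncomputable def trApp {Y' : Over X} (j : Y ⟶ Y') : (FY p₁ p₂ Y').obj N ⟶ (FY p₁ p₂ Y).obj N :=
  mkHom (fun B =>
    { toFun := fun x => (evF p₁ p₂ Y N B).symm (rs N.val (jS p₁ p₂ j B) (evF p₁ p₂ Y' N B x))
      map_add' := fun x y => by rw [map_add, map_add, map_add]
      map_smul' := fun c x => (evF p₁ p₂ Y N B).injective (by
        rw [RingHom.id_apply, AddEquiv.apply_symm_apply, evF_smul, rs_smul]
        refine Eq.trans ?_ ((evF_smul p₁ p₂ Y N B c _).trans (congrArg _ (AddEquiv.apply_symm_apply _ _))).symm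
        exact congrArg (fun z : (BigSite.ORing Scheme.fppfPrecoverage T).obj.obj (op (obS p₁ p₂ Y B)) =>
            z • rs N.val (jS p₁ p₂ j B) (evF p₁ p₂ Y' N B x))
          (sc_map (jS p₁ p₂ j B) _ (πB p₁ p₂ Y B) (jS_fst p₁ p₂ j B) c)) })
    (fun {B C} g x => (evF p₁ p₂ Y N C).injective (by
      show evF p₁ p₂ Y N C ((evF p₁ p₂ Y N C).symm (rs N.val (jS p₁ p₂ j C) (evF p₁ p₂ Y' N C (mp _ g x)))) = _
      rw [AddEquiv.apply_symm_apply]
      refine Eq.trans ?_ (evF_mp p₁ p₂ Y N B g _).symm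
      rw [evF_mp]
      refine Eq.trans ?_ (congrArg (rs N.val _) ((evF p₁ p₂ Y N B).apply_symm_apply _)).symm
      rw [rs_comp, rs_comp, jS_nat]))

theorem ap_trApp {Y' : Over X} (j : Y ⟶ Y') (x : ((FY p₁ p₂ Y').obj N).obj (Adeq.pt B)) :
    evF p₁ p₂ Y N B (ap (trApp p₁ p₂ N j) B x) = rs N.val (jS p₁ p₂ j B) (evF p₁ p₂ Y' N B x) :=
  (evF p₁ p₂ Y N B).apply_symm_apply _

/-- Restriction, natural in the module. -/
noncomputable def tr {Y' : Over X} (j : Y ⟶ Y') : FY p₁ p₂ Y' ⟶ FY p₁ p₂ Y where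
  app N := trApp p₁ p₂ N j
  naturality N N' φ := hom_ext fun B x => (evF p₁ p₂ Y N' B).injective (by
    rw [ap_comp, ap_comp, ap_trApp, evF_map, evF_map, ap_trApp]
    exact (rs_nat φ (jS p₁ p₂ j B) (evF p₁ p₂ Y' N B x)).symm)

section Top

variable {S : Scheme.{u}} (f : T ⟶ S) (a : Spec R ⟶ S)

/-- The forward comparison map. -/
noncomputable def topHom (B : Adeq.Alg R) :
    (obY f a B).left ⟶ (obS (pullback.fst a f) (pullback.snd a f) (Over.mk (𝟙 (pullback a f))) B).left :=
  pullback.lift (pullback.fst (stru B ≫ a) f) (toX f a B) (by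
    refine (congrArg (fun w => pullback.fst (stru B ≫ a) f ≫ w) (sp_hom R B)).trans ?_
    refine Eq.trans ?_ (congrArg (fun w => toX f a B ≫ w) (Category.id_comp (pullback.fst a f))).symm
    exact (pullback.lift_fst _ _ _).symm)

/-- The backward comparison map. -/
noncomputable def topInv (B : Adeq.Alg R) :
    (obS (pullback.fst a f) (pullback.snd a f) (Over.mk (𝟙 (pullback a f))) B).left ⟶ (obY f a B).left :=
  pullback.lift (πB _ _ _ B) (πY (pullback.fst a f) (pullback.snd a f) (Over.mk (𝟙 (pullback a f))) B ≫ pullback.snd a f) (by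
    have h : πB (pullback.fst a f) (pullback.snd a f) (Over.mk (𝟙 (pullback a f))) B ≫ stru B =
        πY (pullback.fst a f) (pullback.snd a f) (Over.mk (𝟙 (pullback a f))) B ≫ pullback.fst a f := by
      refine Eq.trans ?_ ((pullback.condition (f := (sp R B).hom) (g := 𝟙 (pullback a f) ≫ pullback.fst a f)).trans
        (congrArg (fun w => _ ≫ w) (Category.id_comp _)))
      exact congrArg (fun w => pullback.fst _ _ ≫ w) (sp_hom R B).symm
    refine (Category.assoc _ _ _).symm.trans ((congrArg (fun w => w ≫ a) h).trans ?_)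
    refine (Category.assoc _ _ _).trans ((congrArg (fun w => _ ≫ w) pullback.condition).trans (Category.assoc _ _ _).symm))

/-- The comparison of objects for the whole base change. -/
noncomputable def topIso (B : Adeq.Alg R) :
    obY f a B ≅ obS (pullback.fst a f) (pullback.snd a f) (Over.mk (𝟙 (pullback a f))) B :=
  Over.isoMk
    { hom := topHom f a B
      inv := topInv f a B
      hom_inv_id := by
        refine pullback.hom_ext ?_ ?_
        · refine (Category.assoc _ _ _).trans ((congrArg (fun w => topHom f a B ≫ w) (pullback.lift_fst _ _ _)).trans ?_)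
          exact (pullback.lift_fst _ _ _).trans (Category.id_comp _).symm
        · refine (Category.assoc _ _ _).trans ((congrArg (fun w => topHom f a B ≫ w) (pullback.lift_snd _ _ _)).trans ?_)
          refine (Category.assoc _ _ _).symm.trans ((congrArg (fun w => w ≫ pullback.snd a f) (pullback.lift_snd _ _ _)).trans ?_)
          exact (pullback.lift_snd _ _ _).trans (Category.id_comp _).symm
      inv_hom_id := by
        refine pullback.hom_ext ?_ ?_
        · refine (Category.assoc _ _ _).trans ((congrArg (fun w => topInv f a B ≫ w) (pullback.lift_fst _ _ _)).trans ?_)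
          exact (pullback.lift_fst _ _ _).trans (Category.id_comp _).symm
        · refine (Category.assoc _ _ _).trans ((congrArg (fun w => topInv f a B ≫ w) (pullback.lift_snd _ _ _)).trans ?_)
          refine Eq.trans ?_ (Category.id_comp _).symm
          refine pullback.hom_ext ?_ ?_
          · refine (Category.assoc _ _ _).trans ((congrArg (fun w => topInv f a B ≫ w) (pullback.lift_fst _ _ _)).trans ?_)
            refine (Category.assoc _ _ _).symm.trans ((congrArg (fun w => w ≫ stru B) (pullback.lift_fst _ _ _)).trans ?_)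
            refine Eq.trans ?_ ((pullback.condition (f := (sp R B).hom) (g := 𝟙 (pullback a f) ≫ pullback.fst a f)).trans
              (congrArg (fun w => _ ≫ w) (Category.id_comp _)))
            exact congrArg (fun w => pullback.fst _ _ ≫ w) (sp_hom R B).symm
          · refine (Category.assoc _ _ _).trans ((congrArg (fun w => topInv f a B ≫ w) (pullback.lift_snd _ _ _)).trans ?_)
            exact pullback.lift_snd _ _ _ }
    (by
      show topHom f a B ≫ πY _ _ _ B ≫ 𝟙 _ ≫ pullback.snd a f = pullback.snd (stru B ≫ a) f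
      rw [Category.id_comp]
      refine (Category.assoc _ _ _).symm.trans ((congrArg (fun w => w ≫ pullback.snd a f) (pullback.lift_snd _ _ _)).trans ?_)
      exact pullback.lift_snd _ _ _)

theorem topIso_fst (B : Adeq.Alg R) :
    (topIso f a B).hom.left ≫ πB (pullback.fst a f) (pullback.snd a f) (Over.mk (𝟙 (pullback a f))) B =
      pullback.fst (stru B ≫ a) f := pullback.lift_fst _ _ _

theorem topIso_snd (B : Adeq.Alg R) :
    (topIso f a B).hom.left ≫ πY (pullback.fst a f) (pullback.snd a f) (Over.mk (𝟙 (pullback a f))) B =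
      toX f a B := pullback.lift_snd _ _ _

theorem topIso_nat {B C : Adeq.Alg R} (g : B ⟶ C) :
    (topIso f a C).hom ≫ (Over.map _).map ((Over.pullback _).map (spMap R g)) =
      (Over.pullback f).map ((Adeq.specOver a).map g.op) ≫ (topIso f a B).hom := by
  refine jS_ext _ _ _ _ ?_ ?_
  · rw [Over.comp_left, Over.comp_left, Category.assoc, Category.assoc, topIso_fst]
    refine (congrArg (fun w => (topIso f a C).hom.left ≫ w) (pullback.lift_fst _ _ _)).trans ?_
    refine ((Category.assoc _ _ _).symm.trans (congrArg (fun w => w ≫ (spMap R g).left) (topIso_fst f a C))).trans ?_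
    exact (pullback.lift_fst _ _ _).symm
  · rw [Over.comp_left, Over.comp_left, Category.assoc, Category.assoc, topIso_snd]
    refine (congrArg (fun w => (topIso f a C).hom.left ≫ w) (pullback.lift_snd _ _ _)).trans ?_
    refine (topIso_snd f a C).trans ?_
    refine pullback.hom_ext ?_ ?_
    · refine (pullback.lift_fst _ _ _).trans ?_
      refine Eq.trans ?_ (Category.assoc _ _ _).symm
      refine Eq.trans ?_ (congrArg (fun w => ((Over.pullback f).map ((Adeq.specOver a).map g.op)).left ≫ w) (pullback.lift_fst _ _ _)).symm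
      refine Eq.trans ?_ (Category.assoc _ _ _)
      refine Eq.trans ?_ (congrArg (fun w => w ≫ stru B) (pullback.lift_fst _ _ _)).symm
      refine Eq.trans ?_ (Category.assoc _ _ _).symm
      refine congrArg (fun w => pullback.fst (stru C ≫ a) f ≫ w) ?_
      show Spec.map _ = Spec.map _ ≫ Spec.map _
      rw [← Spec.map_comp]
      exact congrArg Spec.map (CommRingCat.hom_ext (RingHom.ext fun c => (g.hom.commutes c).symm))
    · refine (pullback.lift_snd _ _ _).trans ?_
      refine Eq.trans ?_ (Category.assoc _ _ _).symm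
      refine Eq.trans ?_ (congrArg (fun w => ((Over.pullback f).map ((Adeq.specOver a).map g.op)).left ≫ w) (pullback.lift_snd _ _ _)).symm
      exact (pullback.lift_snd _ _ _).symm

/-- The comparison with the pushforward. -/
noncomputable def topApp (N : BigSite.Mod Scheme.fppfPrecoverage T) :
    (FY (pullback.fst a f) (pullback.snd a f) (Over.mk (𝟙 (pullback a f)))).obj N ⟶
      (BigSite.pushMod Scheme.fppfPrecoverage f ⋙ Adeq.toMVF Scheme.fppfPrecoverage a).obj N :=
  mkHom (fun B =>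
    { toFun := fun x => (evY N B).symm (rs N.val (topIso f a B).hom (evF _ _ _ N B x))
      map_add' := fun x y => by rw [map_add, map_add, map_add]; rfl
      map_smul' := fun c x => (evY N B).injective (by
        refine (AddEquiv.apply_symm_apply _ _).trans ?_
        rw [evF_smul, rs_smul]
        refine Eq.trans ?_ ((evY_smul N B c _).trans (congrArg _ (AddEquiv.apply_symm_apply _ _))).symm
        exact congrArg (fun z : (BigSite.ORing Scheme.fppfPrecoverage T).obj.obj (op (obY f a B)) =>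
            z • rs N.val (topIso f a B).hom (evF _ _ _ N B x))
          (sc_map (topIso f a B).hom _ (pullback.fst (stru B ≫ a) f) (topIso_fst f a B) c)) })
    (fun {B C} g x => (evY N C).injective (by
      show evY N C ((evY N C).symm (rs N.val (topIso f a C).hom (evF _ _ _ N C (mp _ g x)))) =
        rs N.val ((Over.pullback f).map ((Adeq.specOver a).map g.op))
          (evY N B ((evY N B).symm (rs N.val (topIso f a B).hom (evF _ _ _ N B x))))
      rw [AddEquiv.apply_symm_apply, AddEquiv.apply_symm_apply, evF_mp, rs_comp, rs_comp, topIso_nat]))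

/-- The comparison with the pushforward, natural. -/
noncomputable def topNat : FY (pullback.fst a f) (pullback.snd a f) (Over.mk (𝟙 (pullback a f))) ≅
    BigSite.pushMod Scheme.fppfPrecoverage f ⋙ Adeq.toMVF Scheme.fppfPrecoverage a :=
  NatIso.ofComponents (fun N => @asIso _ _ _ _ (topApp f a N) (isIso_of_bijective _ fun B => by
      show Function.Bijective fun x => (evY N B).symm (rs N.val (topIso f a B).hom (evF _ _ _ N B x))
      exact (evY N B).symm.bijective.comp ((rsEquiv N.val (topIso f a B)).bijective.comp (evF _ _ _ N B).bijective)))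
    (fun {N N'} φ => hom_ext fun B x => (evY N' B).injective (by
      show rs N'.val (topIso f a B).hom (φ.val.app _ (evF _ _ _ N B x)) =
        φ.val.app _ (rs N.val (topIso f a B).hom (evF _ _ _ N B x))
      exact (rs_nat φ (topIso f a B).hom _).symm))

end Top

end Groth.Agent.Adeq2Lib.Slice
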